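import Groth.Agent.DCohBridge.PushProj
import Groth.Prelude.Def_ClSub2

/-!
Modules killed by the ideal of a closed immersion are direct images.
-/

set_option autoImplicit false
set_option backward.isDefEq.respectTransparency false

universe u

open CategoryTheory Opposite TopologicalSpace AlgebraicGeometry

namespace Groth.Agent.ClPush

open Groth.Agent.DCohBridge

variable {X Y : Scheme.{u}} (f : X ⟶ Y) [IsClosedImmersion f]

lemma mem_ker_ideal_iff (U : Y.affineOpens) (a : Γ(Y, U.1)) :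
    a ∈ f.ker.ideal U ↔ f.app U.1 a = 0 := by
  rw [f.ker_apply U, RingHom.mem_ker]

theorem exists_affine_le {V : Y.Opens} {y : Y} (hy : y ∈ V) : ∃ U : Y.affineOpens, y ∈ U.1 ∧ U.1 ≤ V := by
  obtain ⟨_, ⟨U, hU, rfl⟩, hyU, hUV⟩ := Y.isBasis_affineOpens.exists_subset_of_mem_open hy V.2
  exact ⟨⟨U, hU⟩, hyU, hUV⟩

theorem isPushLike_of_killed {G : Y.Modules} (hG : ClSub.KilledByIdeal f.ker G) : IsPushLike f G where
  annihilated x r hr m := by
    obtain ⟨V, hV, a, rfl⟩ := TopCat.Presheaf.exists_germ_eq (C := CommRingCat.{u}) Y.presheaf r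
    obtain ⟨V', hV', s, rfl⟩ := TopCat.Presheaf.exists_germ_eq (C := AddCommGrpCat.{u}) G.presheaf m
    rw [germ_stφ] at hr
    obtain ⟨W₀, hW₀, i, j, e⟩ := TopCat.Presheaf.germ_eq (C := CommRingCat.{u}) X.presheaf x (U := f ⁻¹ᵁ V) (V := f ⁻¹ᵁ V) hV hV _ 0
      (hr.trans (map_zero _).symm)
    obtain ⟨W, rfl⟩ := exists_preimage_eq f W₀
    obtain ⟨U, hxU, hU⟩ := exists_affine_le (V := V ⊓ V' ⊓ W) (y := f.base x) ⟨⟨hV, hV'⟩, hW₀⟩
    have hUV : U.1 ≤ V := hU.trans (inf_le_left.trans inf_le_left)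
    have hUV' : U.1 ≤ V' := hU.trans (inf_le_left.trans inf_le_right)
    have hUW : U.1 ≤ W := hU.trans inf_le_right
    have hker : Y.presheaf.map (homOfLE hUV).op a ∈ f.ker.ideal U := by
      rw [mem_ker_ideal_iff]
      have hle : f ⁻¹ᵁ U.1 ≤ f ⁻¹ᵁ W := fun z hz => hUW hz
      have e' := congrArg (fun t => X.presheaf.map (homOfLE hle).op t) e
      simp only [map_zero] at e'
      refine Eq.trans ?_ e'
      rw [← CommRingCat.comp_apply, Scheme.Hom.naturality, CommRingCat.comp_apply]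
      change X.presheaf.map _ (f.app V a) = X.presheaf.map _ (X.presheaf.map _ (f.app V a))
      rw [← CommRingCat.comp_apply (X.presheaf.map i.op), ← Functor.map_comp]
      rfl
    have h0 := hG U _ hker (G.presheaf.map (homOfLE hUV').op s)
    have h1 := congrArg (gmM G U.1 hxU) h0
    rw [map_zero] at h1
    refine Eq.trans ?_ h1
    refine Eq.trans ?_ (gmM_smul G U.1 hxU _ _).symm
    show Y.presheaf.germ V (f.base x) hV a • (G.presheaf.germ V' (f.base x) hV' s) =
      Y.presheaf.germ U.1 (f.base x) hxU (Y.presheaf.map (homOfLE hUV).op a) •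
        (G.presheaf.germ U.1 (f.base x) hxU (G.presheaf.map (homOfLE hUV').op s))
    rw [TopCat.Presheaf.germ_res_apply, TopCat.Presheaf.germ_res_apply]
  isZero y hy := by
    rw [Limits.IsZero.iff_id_eq_zero]
    refine stalk_hom_ext fun V hV s => ?_
    let W : Y.Opens := ⟨(Set.range f.base)ᶜ, f.isClosedEmbedding.isClosed_range.isOpen_compl⟩
    obtain ⟨U, hyU, hU⟩ := exists_affine_le (V := V ⊓ W) (y := y) ⟨hV, hy⟩
    have hker : (1 : Γ(Y, U.1)) ∈ f.ker.ideal U := by
      rw [mem_ker_ideal_iff]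
      have he : f ⁻¹ᵁ U.1 = ⊥ := le_bot_iff.1 fun z hz => (hU hz).2 ⟨z, rfl⟩
      haveI : Subsingleton Γ(X, f ⁻¹ᵁ U.1) := by rw [he]; infer_instance
      exact Subsingleton.elim _ _
    have h0 := hG U _ hker (G.presheaf.map (homOfLE (hU.trans inf_le_left)).op s)
    erw [one_smul] at h0
    refine (TopCat.Presheaf.germ_res_apply (C := AddCommGrpCat.{u})
      G.presheaf (homOfLE (hU.trans inf_le_left)) y hyU s).symm.trans ?_
    erw [h0, map_zero]
    rfl

theorem isIso_unit_of_killed {G : Y.Modules} (hG : ClSub.KilledByIdeal f.ker G) :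
    IsIso ((Scheme.Modules.pullbackPushforwardAdjunction f).unit.app G) :=
  isIso_unit_of_pushLike f (isPushLike_of_killed f hG)

theorem killed_of_isIso_unit {G : Y.Modules}
    (h : IsIso ((Scheme.Modules.pullbackPushforwardAdjunction f).unit.app G)) :
    ClSub.KilledByIdeal f.ker G := by
  intro U a ha m
  let η := (Scheme.Modules.pullbackPushforwardAdjunction f).unit.app G
  haveI : IsIso η := h
  haveI : IsIso (η.app U.1) := Scheme.Modules.Hom.isIso_iff_isIso_app.1 inferInstance U.1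
  refine (ConcreteCategory.bijective_of_isIso (η.app U.1)).1 ?_
  refine (Scheme.Modules.Hom.app_smul η a m).trans (Eq.trans ?_ (map_zero _).symm)
  let t : Γ((Scheme.Modules.pullback f).obj G, f ⁻¹ᵁ U.1) := η.app U.1 m
  show f.app U.1 a • t = 0
  rw [(mem_ker_ideal_iff f U a).1 ha, zero_smul]

end Groth.Agent.ClPush
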