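import Groth.Agent.ClPush.Thicken
import Groth.Agent.ClPush.Killed
import Groth.Agent.CAlgCompl.Basic
import Groth.Agent.S3861
import Groth.Prelude.Def_FSch3

/-!
Systems of thickenings: adicness and Noetherianity under cartesian squares.
-/

set_option autoImplicit false
set_option backward.isDefEq.respectTransparency.types false

universe u

open CategoryTheory CategoryTheory.Limits AlgebraicGeometry

namespace Groth.Agent.ClPush

theorem isNoetherianRing_of_nilpotent {A : Type u} [CommRing A] (J : Ideal A) (hJ : J.FG) (h : IsNilpotent J)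
    [IsNoetherianRing (A ⧸ J)] : IsNoetherianRing A := by
  obtain ⟨n, hn⟩ := h
  haveI : IsHausdorff J A := ⟨fun x hx => by simpa [hn] using hx n⟩
  haveI : IsPrecomplete J A := ⟨fun f hf => ⟨f n, fun m => by
    rcases le_total m n with hmn | hmn
    · exact hf hmn
    · have h1 := hf hmn
      simp [hn] at h1
      rw [h1]⟩⟩
  haveI : IsAdicComplete J A := ⟨⟩
  exact CAlgCompl.isNoetherianRing_of_isAdicComplete J hJ

theorem isLocallyNoetherian_of_thickening {X X' : Scheme.{u}} (i : X ⟶ X') [IsClosedImmersion i]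
    [IsLocallyNoetherian X] (hfg : FSch.IdealFT i.ker)
    (hn : ∀ U : X'.affineOpens, IsNilpotent (i.ker.ideal U)) : IsLocallyNoetherian X' := by
  refine ⟨fun U => ?_⟩
  haveI := IsLocallyNoetherian.component_noetherian (X := X) ⟨i ⁻¹ᵁ U.1, U.2.preimage i⟩
  have h0 : i.ker.ideal U = RingHom.ker (i.app U.1).hom := i.ker_apply U
  haveI : IsNoetherianRing (Γ(X', U.1) ⧸ i.ker.ideal U) := by
    rw [h0]
    exact isNoetherianRing_of_ringEquiv Γ(X, i ⁻¹ᵁ U.1)
      (RingHom.quotientKerEquivOfSurjective (i.app_surjective U.1 U.2)).symm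
  exact isNoetherianRing_of_nilpotent (i.ker.ideal U) (hfg U) (hn U)

theorem comap_pow {X Y : Scheme.{u}} (f : X ⟶ Y) (K : Y.IdealSheafData) :
    ∀ n : ℕ, (K ^ (n + 1)).comap f = K.comap f ^ (n + 1)
  | 0 => by rw [pow_one, pow_one]
  | n + 1 => by rw [pow_succ, Groth.Agent.S3861.result, comap_pow f K n, ← pow_succ]

variable {X X' Y Y' : Scheme.{u}} {iX : X ⟶ X'} {iY : Y ⟶ Y'} {f : X ⟶ Y} {f' : X' ⟶ Y'}

theorem ker_of_isPullback [IsClosedImmersion iY] (hc : IsPullback iX f f' iY) : iX.ker = iY.ker.comap f' := by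
  rw [← Scheme.IdealSheafData.ker_fst_of_isClosedImmersion, ← hc.isoPullback_hom_fst,
    Scheme.Hom.ker_comp_of_isIso]

theorem idealFT_ker [IsLocallyNoetherian X'] (i : X ⟶ X') : FSch.IdealFT i.ker := fun U =>
  haveI := IsLocallyNoetherian.component_noetherian (X := X') U
  IsNoetherian.noetherian _

/-- finite type ideals pull back to finite type ideals -/
theorem idealFT_comap {X Y : Scheme.{u}} (f : X ⟶ Y) [IsLocallyNoetherian Y] (K : Y.IdealSheafData)
    (U : Y.affineOpens) (V : X.affineOpens) (h : V.1 ≤ f ⁻¹ᵁ U.1) : ((K.comap f).ideal V).FG := by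
  haveI := IsLocallyNoetherian.component_noetherian (X := Y) U
  rw [FpqcDescent.ideal_comap K f U V h]
  exact Ideal.FG.map (IsNoetherian.noetherian _) _

/-- finite type ideals pull back to finite type ideals, on every affine -/
theorem idealFT_comap' {X Y : Scheme.{u}} (f : X ⟶ Y) [IsLocallyNoetherian Y] (K : Y.IdealSheafData) :
    FSch.IdealFT (K.comap f) := by
  intro V
  let t : Set Γ(X, V.1) := {r | ∃ U : Y.affineOpens, X.basicOpen r ≤ f ⁻¹ᵁ U.1}
  have ht : Ideal.span t = ⊤ := by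
    rw [← V.2.self_le_iSup_basicOpen_iff]
    intro x hx
    obtain ⟨U, hxU, -⟩ := exists_affine_le (V := ⊤) (y := f.base x) trivial
    obtain ⟨r, hr, hxr⟩ := V.2.exists_basicOpen_le (V := f ⁻¹ᵁ U.1) ⟨x, hxU⟩ hx
    exact TopologicalSpace.Opens.mem_iSup.2 ⟨⟨r, U, hr⟩, hxr⟩
  refine Ideal.fg_of_localizationSpan t ht fun r => ?_
  obtain ⟨U, hU⟩ := r.2
  haveI := V.2.isLocalization_basicOpen r.1
  let e := IsLocalization.algEquiv (Submonoid.powers r.1) Γ(X, X.basicOpen r.1) (Localization.Away r.1)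
  have h1 := idealFT_comap f K U (X.affineBasicOpen r.1) hU
  have h2 : ((K.comap f).ideal V).map (algebraMap _ Γ(X, X.basicOpen r.1)) =
      (K.comap f).ideal (X.affineBasicOpen r.1) := (K.comap f).map_ideal_basicOpen V r.1
  rw [show (algebraMap Γ(X, V.1) (Localization.Away r.1)) =
      (e : Γ(X, X.basicOpen r.1) →+* Localization.Away r.1).comp (algebraMap _ _) from
    (RingHom.ext fun a => (e.commutes a).symm), ← Ideal.map_map, h2]
  exact Ideal.FG.map h1 _

theorem isNilpotent_ker_ideal {X X' : Scheme.{u}} (i : X ⟶ X') [IsClosedImmersion i] [Surjective i]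
    (hfg : FSch.IdealFT i.ker) (U : X'.affineOpens) : IsNilpotent (i.ker.ideal U) := by
  have h : i.ker.ideal U ≤ nilradical _ := (i.ker_apply U).le.trans (FlatBasics.ker_app_le_nilradical i U.2)
  obtain ⟨n, hn⟩ := Ideal.exists_pow_le_of_le_radical_of_fg h (hfg U)
  exact ⟨n, le_bot_iff.1 hn⟩

theorem isClosedImmersion_toX {𝔛 : FSch.Sys.{u}} (h : 𝔛.IsFormal) : ∀ n, IsClosedImmersion (𝔛.toX n)
  | 0 => inferInstanceAs (IsClosedImmersion (𝟙 _))
  | n + 1 =>
    haveI := (h n).1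
    haveI := isClosedImmersion_toX h n
    inferInstanceAs (IsClosedImmersion (𝔛.toX n ≫ 𝔛.ι n))

theorem isPullback_toX {𝔛 𝔖 : FSch.Sys.{u}} (f : 𝔛 ⟶ 𝔖) (hf : FSch.IsAdicHom f) :
    ∀ n, IsPullback (𝔛.toX n) ((f : FSch.Hom 𝔛 𝔖).app 0) ((f : FSch.Hom 𝔛 𝔖).app n) (𝔖.toX n)
  | 0 => by
    haveI : IsIso (𝔛.toX 0) := inferInstanceAs (IsIso (𝟙 _))
    haveI : IsIso (𝔖.toX 0) := inferInstanceAs (IsIso (𝟙 _))
    exact IsPullback.of_horiz_isIso ⟨by simp [FSch.Sys.toX]⟩
  | n + 1 => (isPullback_toX f hf n).paste_horiz (hf n)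

theorem isFormal_of_isAdicHom {𝔛 𝔖 : FSch.Sys.{u}} (f : 𝔛 ⟶ 𝔖) (h : 𝔖.IsFormal) (hf : FSch.IsAdicHom f) :
    𝔛.IsFormal := fun n => by
  haveI := (h n).1
  haveI : Surjective (𝔖.ι n) := ⟨(h n).2⟩
  haveI := FlatBasics.surjective_fst_of_isPullback (hf n)
  exact ⟨MorphismProperty.of_isPullback (P := @IsClosedImmersion) (hf n).flip inferInstance, (𝔛.ι n).surjective⟩

theorem isAdic_of_isAdicHom {𝔛 𝔖 : FSch.Sys.{u}} (f : 𝔛 ⟶ 𝔖) (h : 𝔖.IsFormal) (ha : 𝔖.IsAdic)
    (hf : FSch.IsAdicHom f) : 𝔛.IsAdic := fun n => by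
  haveI := (h n).1
  haveI := isClosedImmersion_toX h (n + 1)
  rw [ker_of_isPullback (hf n), ha n, comap_pow, ← ker_of_isPullback (isPullback_toX f hf (n + 1))]

theorem isLocNoethFormal_of_isAdicHom {𝔛 𝔖 : FSch.Sys.{u}} (f : 𝔛 ⟶ 𝔖) (h : 𝔖.IsLocNoethFormal)
    (hf : FSch.IsAdicHom f) [IsLocallyNoetherian (𝔛.X 0)] : 𝔛.IsLocNoethFormal := by
  have hF := isFormal_of_isAdicHom f h.1 hf
  refine ⟨hF, isAdic_of_isAdicHom f h.1 h.2.1 hf, fun n => ?_⟩
  induction n with
  | zero => infer_instance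
  | succ n ih =>
    haveI := ih
    haveI := (h.1 n).1
    haveI := (hF n).1
    haveI : Surjective (𝔛.ι n) := ⟨(hF n).2⟩
    haveI := h.2.2 (n + 1)
    have hfg : FSch.IdealFT (𝔛.ι n).ker := by
      rw [ker_of_isPullback (hf n)]
      exact idealFT_comap' _ _
    exact isLocallyNoetherian_of_thickening (𝔛.ι n) hfg (isNilpotent_ker_ideal (𝔛.ι n) hfg)

theorem ker_of_comp_eq {Z₁ Z₂ X : Scheme.{u}} {i₁ : Z₁ ⟶ X} {i₂ : Z₂ ⟶ X} [IsClosedImmersion i₁] [IsClosedImmersion i₂]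
    (j : Z₁ ⟶ Z₂) (w : j ≫ i₂ = i₁) : j.ker = i₁.ker.comap i₂ := by
  subst w
  refine ker_of_isPullback (iY := j ≫ i₂) (f := 𝟙 Z₁) ?_
  refine IsPullback.of_isLimit (c := PullbackCone.mk j (𝟙 Z₁) (by simp))
    (PullbackCone.IsLimit.mk _ (fun s => s.snd) (fun s => ?_) (fun s => ?_) (fun s m h1 h2 => ?_))
  · refine (cancel_mono i₂).1 ?_
    rw [Category.assoc]
    exact s.condition.symm
  · exact Category.comp_id _
  · exact (Category.comp_id m).symm.trans h2

/-- A system of closed subschemes of `X` cut out by the powers of an ideal is adic. -/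
theorem isLocNoethFormal_of_powers {𝔛 : FSch.Sys.{u}} {X : Scheme.{u}} [IsLocallyNoetherian X]
    (i : ∀ n, 𝔛.X n ⟶ X) (hi : ∀ n, IsClosedImmersion (i n)) (K : X.IdealSheafData)
    (hker : ∀ n, (i n).ker = K ^ (n + 1)) (w : ∀ n, 𝔛.ι n ≫ i (n + 1) = i n) : 𝔛.IsLocNoethFormal := by
  haveI := hi
  have hn : ∀ n, IsLocallyNoetherian (𝔛.X n) := fun n => LocallyOfFiniteType.isLocallyNoetherian (i n)
  have hrange : ∀ n, Set.range (i n) = (K.support : Set X) := fun n => by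
    rw [← (i n).isClosedEmbedding.isClosed_range.closure_eq, ← Scheme.Hom.support_ker, hker,
      Scheme.IdealSheafData.support_pow_succ]
  have hF : 𝔛.IsFormal := fun n => by
    haveI : IsClosedImmersion (𝔛.ι n ≫ i (n + 1)) := by rw [w]; infer_instance
    refine ⟨IsClosedImmersion.of_comp _ (i (n + 1)), fun y => ?_⟩
    obtain ⟨x, hx⟩ : i (n + 1) y ∈ Set.range (i n) := by rw [hrange, ← hrange (n + 1)]; exact ⟨y, rfl⟩
    refine ⟨x, (i (n + 1)).isClosedEmbedding.injective ?_⟩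
    rw [← hx, ← w n]
    rfl
  have hto : ∀ n, 𝔛.toX n ≫ i n = i 0 := by
    intro n
    induction n with
    | zero => exact Category.id_comp _
    | succ n ih => rw [FSch.Sys.toX, Category.assoc, w, ih]
  refine ⟨hF, fun n => ?_, hn⟩
  rw [ker_of_comp_eq (𝔛.ι n) (w n), hker, comap_pow, ker_of_comp_eq (𝔛.toX (n + 1)) (hto (n + 1)), hker,
    zero_add, pow_one]

/-- The kernel of a closed subscheme of an affine scheme. -/
theorem ker_specMap_ideal_top {A B : CommRingCat.{u}} (φ : A ⟶ B) :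
    (Spec.map φ).ker.ideal ⟨⊤, isAffineOpen_top _⟩ = (RingHom.ker φ.hom).map (Scheme.ΓSpecIso A).inv.hom := by
  rw [(Spec.map φ).ker_apply ⟨⊤, isAffineOpen_top _⟩]
  have h : (Scheme.ΓSpecIso A).inv ≫ (Spec.map φ).app ⊤ = φ ≫ (Scheme.ΓSpecIso B).inv :=
    (Scheme.ΓSpecIso_inv_naturality φ).symm
  ext x
  obtain ⟨a, rfl⟩ := (ConcreteCategory.bijective_of_isIso (Scheme.ΓSpecIso A).inv).2 x
  have h' : ((Spec.map φ).app ⊤) ((Scheme.ΓSpecIso A).inv a) = (Scheme.ΓSpecIso B).inv (φ a) := congr($h a)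
  rw [Ideal.mem_map_iff_of_surjective _ (ConcreteCategory.bijective_of_isIso (Scheme.ΓSpecIso A).inv).2]
  constructor
  · intro hx
    refine ⟨a, ?_, rfl⟩
    refine (ConcreteCategory.bijective_of_isIso (Scheme.ΓSpecIso B).inv).1 ?_
    rw [← h', map_zero]
    exact hx
  · rintro ⟨b, hb, hba⟩
    rw [RingHom.mem_ker] at hb ⊢
    rw [← hba]
    refine (congr($h b)).trans ?_
    show (Scheme.ΓSpecIso B).inv (φ b) = 0
    rw [hb, map_zero]

theorem ker_specMap_quot_pow (A : Type u) [CommRing A] (J : Ideal A) (n : ℕ) :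
    (Spec.map (CommRingCat.ofHom (Ideal.Quotient.mk (J ^ (n + 1))))).ker =
      (Spec.map (CommRingCat.ofHom (Ideal.Quotient.mk (J ^ (0 + 1))))).ker ^ (n + 1) := by
  refine Scheme.IdealSheafData.ext_of_isAffine ?_
  rw [Scheme.IdealSheafData.ideal_pow, Pi.pow_apply, ker_specMap_ideal_top, ker_specMap_ideal_top,
    ← Ideal.map_pow]
  congr 1
  simp [Ideal.mk_ker]

end Groth.Agent.ClPush
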