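import Groth.Agent.ClPush.StalkRing
import Groth.Agent.FSAdic.Transfer
import Groth.Agent.FlatCrit.Basic
import Groth.Agent.AdicNoeth.Basic

/-!
Flatness of the completion of a flat map, and of the completed localizations of a formal spectrum.
-/

set_option autoImplicit false
set_option backward.isDefEq.respectTransparency false

universe u

open scoped TensorProduct

namespace Groth.Agent.ClPush

open AdicCompletion

variable {S T : Type u} [CommRing S] [CommRing T]

theorem flat_quotientMap {R P : Type u} [CommRing R] [CommRing P] [Algebra R P] [Module.Flat R P] (K : Ideal R) :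
    (Ideal.quotientMap (K.map (algebraMap R P)) (algebraMap R P) Ideal.le_comap_map).Flat := by
  letI := (Ideal.quotientMap (K.map (algebraMap R P)) (algebraMap R P) Ideal.le_comap_map).toAlgebra
  haveI : IsScalarTower R (R ⧸ K) (P ⧸ K.map (algebraMap R P)) := IsScalarTower.of_algebraMap_eq fun x => rfl
  let e : (R ⧸ K) ⊗[R] P ≃ₗ[R] P ⧸ K.map (algebraMap R P) :=
    TensorProduct.quotTensorEquivQuotSMul P K ≪≫ₗ
      Submodule.quotEquivOfEq _ _ (Ideal.smul_top_eq_map K) ≪≫ₗ
      (Submodule.Quotient.restrictScalarsEquiv R (K.map (algebraMap R P)))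
  exact Module.Flat.of_linearEquiv (e.extendScalarsOfSurjective Ideal.Quotient.mk_surjective).symm

lemma complMap_algebraMap (I : Ideal S) (K : Ideal T) (g : S →+* T) (h : I.map g ≤ K) (s : S) :
    FSch.complMap I K g h (algebraMap S (AdicCompletion I S) s) = algebraMap T (AdicCompletion K T) (g s) := by
  refine ext_evalₐ fun n => ?_
  rw [evalₐ_complMap, AlgHom.commutes, AlgHom.commutes]
  rfl

lemma le_jacobson_compl (K : Ideal T) : K.map (algebraMap T (AdicCompletion K T)) ≤ Ideal.jacobson ⊥ := by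
  intro x hx
  rw [Ideal.mem_jacobson_bot]
  intro y
  refine isUnit_of_evalOneₐ _ ?_
  have hle : K.map (algebraMap T (AdicCompletion K T)) ≤ RingHom.ker (evalOneₐ K).toRingHom := by
    refine Ideal.map_le_iff_le_comap.2 fun t ht => ?_
    show evalOneₐ K (algebraMap T (AdicCompletion K T) t) = 0
    rw [AlgHom.commutes, Ideal.Quotient.algebraMap_eq, Ideal.Quotient.eq_zero_iff_mem]
    exact ht
  have h0 : evalOneₐ K x = 0 := hle hx
  rw [map_add, map_mul, h0, zero_mul, zero_add, map_one]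
  exact isUnit_one

theorem flat_complMap [IsNoetherianRing S] [IsNoetherianRing T] (I : Ideal S) (g : S →+* T) (hg : g.Flat)
    (K : Ideal T) (hK : I.map g = K) : (FSch.complMap I K g hK.le).Flat := by
  let R := AdicCompletion I S
  let C := AdicCompletion K T
  haveI : IsNoetherianRing R := AdicNoeth.isNoetherianRing_adicCompletion I
  haveI : IsNoetherianRing C := AdicNoeth.isNoetherianRing_adicCompletion K
  let φ := FSch.complMap I K g hK.le
  letI : Algebra R C := φ.toAlgebra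
  let IR : Ideal R := I.map (algebraMap S R)
  have hIC : IR.map φ = K.map (algebraMap T C) := by
    refine Eq.trans ?_ (congrArg (Ideal.map (algebraMap T C)) hK)
    rw [Ideal.map_map, Ideal.map_map]
    exact congrArg (fun ψ => I.map ψ) (RingHom.ext fun s => complMap_algebraMap I K g hK.le s)
  show Module.Flat R C
  refine FlatCrit.flat_of_lTensor_injective_mod_pow (S := C) (I := IR) ?_ fun n N' => ?_
  · exact hIC.le.trans (le_jacobson_compl K)
  suffices Module.Flat (R ⧸ IR ^ n) ((R ⧸ IR ^ n) ⊗[R] C) from FlatCrit.lTensor_injective_of_flat_quotient_pow n N'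
  letI := (Ideal.quotientMap ((IR ^ n).map φ) φ Ideal.le_comap_map).toAlgebra
  haveI : IsScalarTower R (R ⧸ IR ^ n) (C ⧸ (IR ^ n).map φ) := IsScalarTower.of_algebraMap_eq fun x => rfl
  let e : (R ⧸ IR ^ n) ⊗[R] C ≃ₗ[R] C ⧸ (IR ^ n).map φ :=
    TensorProduct.quotTensorEquivQuotSMul C (IR ^ n) ≪≫ₗ
      Submodule.quotEquivOfEq _ _ (Ideal.smul_top_eq_map (IR ^ n)) ≪≫ₗ
      (Submodule.Quotient.restrictScalarsEquiv R ((IR ^ n).map φ))
  suffices (Ideal.quotientMap ((IR ^ n).map φ) φ Ideal.le_comap_map).Flat from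
    haveI : Module.Flat (R ⧸ IR ^ n) (C ⧸ (IR ^ n).map φ) := this
    Module.Flat.of_linearEquiv (e.extendScalarsOfSurjective Ideal.Quotient.mk_surjective)
  have hkR : IR ^ n = RingHom.ker (evalₐ I n).toRingHom :=
    (FSAdic.ker_evalₐ I (IsNoetherian.noetherian I) n).symm
  have hkC : (IR ^ n).map φ = RingHom.ker (evalₐ K n).toRingHom := by
    rw [Ideal.map_pow, hIC, FSAdic.ker_evalₐ K (IsNoetherian.noetherian K) n]
  let eR : R ⧸ IR ^ n ≃+* S ⧸ I ^ n := (Ideal.quotEquivOfEq hkR).trans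
    (RingHom.quotientKerEquivOfSurjective (f := (evalₐ I n).toRingHom) (surjective_evalₐ I n))
  let eC : C ⧸ (IR ^ n).map φ ≃+* T ⧸ K ^ n := (Ideal.quotEquivOfEq hkC).trans
    (RingHom.quotientKerEquivOfSurjective (f := (evalₐ K n).toRingHom) (surjective_evalₐ K n))
  let q := Ideal.quotientMap (K ^ n) g (FSch.pow_le_comap_pow_of_map_le I K g hK.le n)
  have hq : q.Flat := by
    letI := g.toAlgebra
    haveI : Module.Flat S T := hg
    have e1 : (I ^ n).map (algebraMap S T) = K ^ n := by rw [Ideal.map_pow, RingHom.algebraMap_toAlgebra, hK]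
    have h2 := (flat_quotientMap (R := S) (P := T) (I ^ n)).comp (RingHom.Flat.of_bijective (Ideal.quotEquivOfEq e1).bijective :
      ((Ideal.quotEquivOfEq e1 : (T ⧸ (I ^ n).map (algebraMap S T)) ≃+* (T ⧸ K ^ n)) : (T ⧸ (I ^ n).map (algebraMap S T)) →+* (T ⧸ K ^ n)).Flat)
    exact (Ideal.Quotient.ringHom_ext (RingHom.ext fun s => rfl) :
      ((Ideal.quotEquivOfEq e1 : (T ⧸ (I ^ n).map (algebraMap S T)) ≃+* (T ⧸ K ^ n)) :
        (T ⧸ (I ^ n).map (algebraMap S T)) →+* (T ⧸ K ^ n)).comp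
        (Ideal.quotientMap ((I ^ n).map (algebraMap S T)) (algebraMap S T) Ideal.le_comap_map) = q) ▸ h2
  have h3 := ((RingHom.Flat.of_bijective eR.bijective : (eR : R ⧸ IR ^ n →+* S ⧸ I ^ n).Flat).comp hq).comp
    (RingHom.Flat.of_bijective eC.symm.bijective : (eC.symm : T ⧸ K ^ n →+* C ⧸ (IR ^ n).map φ).Flat)
  refine (Ideal.Quotient.ringHom_ext (RingHom.ext fun x => eC.injective ?_) :
    (eC.symm : T ⧸ K ^ n →+* C ⧸ (IR ^ n).map φ).comp (q.comp (eR : R ⧸ IR ^ n →+* S ⧸ I ^ n)) =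
      Ideal.quotientMap ((IR ^ n).map φ) φ Ideal.le_comap_map) ▸ h3
  refine (eC.apply_symm_apply _).trans ?_
  exact (evalₐ_complMap I K g hK.le n x).symm

variable (A : Type u) [CommRing A] [IsNoetherianRing A] (J 𝔭 : Ideal A) [𝔭.IsPrime]

theorem flat_cAwayToAtPrime (f : A) (hf : f ∉ 𝔭) : (FSch.cAwayToAtPrime A J 𝔭 f hf).Flat := by
  haveI : IsNoetherianRing (Localization.Away f) := IsLocalization.isNoetherianRing (Submonoid.powers f) _ inferInstance
  haveI : IsNoetherianRing (Localization.AtPrime 𝔭) := IsLocalization.isNoetherianRing 𝔭.primeCompl _ inferInstance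
  have e : (FSch.awayToAtPrime A 𝔭 f hf).comp (algebraMap A (Localization.Away f)) =
      algebraMap A (Localization.AtPrime 𝔭) := RingHom.ext fun a => by simp [FSch.awayToAtPrime]
  refine flat_complMap _ _ ?_ _ (by rw [Ideal.map_map, e])
  letI := (FSch.awayToAtPrime A 𝔭 f hf).toAlgebra
  haveI : IsScalarTower A (Localization.Away f) (Localization.AtPrime 𝔭) := IsScalarTower.of_algebraMap_eq' e.symm
  show Module.Flat (Localization.Away f) (Localization.AtPrime 𝔭)
  exact (Module.flat_iff_of_isLocalization (Localization.Away f) (Submonoid.powers f) (M := Localization.AtPrime 𝔭)).2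
    (IsLocalization.flat (Localization.AtPrime 𝔭) 𝔭.primeCompl)

theorem flat_of_lifts {B C : Type u} [CommRing B] [CommRing C] [Algebra B C]
    (h : ∀ (l : ℕ) (b : Fin l → B), ∃ (R : Type u) (_ : CommRing R) (φ : R →+* B) (z : Fin l → R),
      ((algebraMap B C).comp φ).Flat ∧ ∀ i, φ (z i) = b i) : Module.Flat B C := by
  refine Module.Flat.of_forall_isTrivialRelation fun {l f x} hfx => ?_
  obtain ⟨R, _, φ, z, hfl, hz⟩ := h l f
  letI : Module R C := ((algebraMap B C).comp φ).toAlgebra.toModule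
  haveI : Module.Flat R C := hfl
  have hzx : ∑ i, z i • x i = 0 := by
    rw [← hfx]
    refine Finset.sum_congr rfl fun i _ => ?_
    rw [← hz i]
    exact (Algebra.smul_def (φ (z i)) (x i)).symm
  obtain ⟨k, a, y, hay, hza⟩ := Module.Flat.isTrivialRelation_of_sum_smul_eq_zero hzx
  refine ⟨k, fun i j => φ (a i j), y, fun i => ?_, fun j => ?_⟩
  · rw [hay i]
    refine Finset.sum_congr rfl fun j _ => ?_
    exact (Algebra.smul_def (φ (a i j)) (y j)).symm
  · rw [← map_zero φ, ← hza j, map_sum]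
    exact Finset.sum_congr rfl fun i _ => by rw [map_mul, hz]

omit [IsNoetherianRing A] in
lemma exists_common (l : ℕ) (b : Fin l → FSch.stalkSubring A J 𝔭) : ∃ (c : A) (hc : c ∉ 𝔭) (z : Fin l → FSch.cAway A J c),
    ∀ i, FSch.cAwayToAtPrime A J 𝔭 c hc (z i) = (b i).1 := by
  induction l with
  | zero => exact ⟨1, fun h => Ideal.IsPrime.ne_top inferInstance ((Ideal.eq_top_iff_one _).2 h), Fin.elim0, fun i => i.elim0⟩
  | succ l ih =>
    obtain ⟨c, hc, z, hz⟩ := ih (fun i => b i.succ)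
    obtain ⟨d, hd, w, hw⟩ := (mem_stalkSubring A J 𝔭 (b 0).1).1 (b 0).2
    have hmove : ∀ (e : A) (he : e ∉ 𝔭), e = c * d → ∀ t : FSch.cAway A J e, ∃ t' : FSch.cAway A J (c * d),
        FSch.cAwayToAtPrime A J 𝔭 (c * d) (mul_notMem A 𝔭 hc hd) t' = FSch.cAwayToAtPrime A J 𝔭 e he t := by
      rintro e he rfl t
      exact ⟨t, rfl⟩
    obtain ⟨w', hw'⟩ := hmove (d * c) (mul_notMem A 𝔭 hd hc) (mul_comm _ _) (cAwayMap A J d c w)
    refine ⟨c * d, mul_notMem A 𝔭 hc hd, Fin.cons w' (fun i => cAwayMap A J c d (z i)), fun i => ?_⟩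
    refine Fin.cases ?_ (fun i => ?_) i
    · rw [Fin.cons_zero, hw', cAwayToAtPrime_map A J 𝔭 d c hd (mul_notMem A 𝔭 hd hc), hw]
    · rw [Fin.cons_succ, cAwayToAtPrime_map A J 𝔭 c d hc (mul_notMem A 𝔭 hc hd), hz]

set_option synthInstance.maxHeartbeats 200000 in
theorem flat_stalk_cAtPrime : Module.Flat (FSch.stalkSubring A J 𝔭) (FSch.cAtPrime A J 𝔭) := by
  refine flat_of_lifts fun l b => ?_
  obtain ⟨c, hc, z, hz⟩ := exists_common A J 𝔭 l b
  exact ⟨FSch.cAway A J c, inferInstance, (FSch.cAwayToAtPrime A J 𝔭 c hc).codRestrict (FSch.stalkSubring A J 𝔭)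
    (fun t => (mem_stalkSubring A J 𝔭 _).2 ⟨c, hc, t, rfl⟩), z, flat_cAwayToAtPrime A J 𝔭 c hc, fun i => Subtype.ext (hz i)⟩

end Groth.Agent.ClPush
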