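import Groth.Agent.ClPush.FormalSys

/-!
Levels of an adic system are Noetherian when the bottom one is.
-/

set_option autoImplicit false
set_option backward.isDefEq.respectTransparency.types false

universe u

open CategoryTheory CategoryTheory.Limits AlgebraicGeometry

namespace Groth.Agent.ClPush

theorem fg_of_nilpotent_of_quotient {A : Type u} [CommRing A] (K : Ideal A) (hK : IsNilpotent K) (n : ℕ)
    (hn : 1 ≤ n) [IsNoetherianRing (A ⧸ K ^ (n + 1))] : K.FG := by
  classical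
  obtain ⟨s, hs⟩ := (IsNoetherian.noetherian (K.map (Ideal.Quotient.mk (K ^ (n + 1)))) :
    (K.map (Ideal.Quotient.mk (K ^ (n + 1)))).FG)
  have hlift : ∀ t : s, ∃ x ∈ K, Ideal.Quotient.mk (K ^ (n + 1)) x = t.1 := fun t =>
    (Ideal.mem_map_iff_of_surjective _ Ideal.Quotient.mk_surjective).1 (hs ▸ Ideal.subset_span t.2)
  choose x hxK hx using hlift
  let L : Ideal A := Ideal.span (Set.range x)
  have hLK : L ≤ K := Ideal.span_le.2 (by rintro _ ⟨t, rfl⟩; exact hxK t)
  have h0 : K ≤ L ⊔ K ^ (n + 1) := by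
    have h1 : K.map (Ideal.Quotient.mk (K ^ (n + 1))) ≤ L.map (Ideal.Quotient.mk (K ^ (n + 1))) := by
      rw [← hs]
      refine Ideal.span_le.2 fun t ht => ?_
      rw [show t = Ideal.Quotient.mk (K ^ (n + 1)) (x ⟨t, ht⟩) from (hx ⟨t, ht⟩).symm]
      exact Ideal.mem_map_of_mem _ (Ideal.subset_span ⟨⟨t, ht⟩, rfl⟩)
    refine (Ideal.le_comap_map.trans (Ideal.comap_mono h1)).trans ?_
    rw [Ideal.comap_map_of_surjective _ Ideal.Quotient.mk_surjective, ← RingHom.ker_eq_comap_bot, Ideal.mk_ker]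
  have h2 : ∀ j, 2 ≤ j → K ≤ L ⊔ K ^ j := by
    intro j hj
    induction j, hj using Nat.le_induction with
    | base => exact h0.trans (sup_le_sup_left (Ideal.pow_le_pow_right (by omega)) _)
    | succ j hj ih =>
      refine h0.trans (sup_le le_sup_left ((Ideal.pow_le_pow_right (show 2 ≤ n + 1 by omega)).trans ?_))
      rw [sq]
      refine (Ideal.mul_mono_left ih).trans ?_
      rw [Ideal.sup_mul, ← pow_succ]
      exact sup_le_sup_right (Ideal.mul_le_left) _
  obtain ⟨m, hm⟩ := hK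
  have h3 : K = L := le_antisymm ((h2 (m + 2) (by omega)).trans
    (sup_le le_rfl ((Ideal.pow_le_pow_right (by omega : m ≤ m + 2)).trans (by rw [hm]; exact bot_le)))) hLK
  rw [h3]
  exact ⟨Finset.univ.image x, by rw [Finset.coe_image, Finset.coe_univ, Set.image_univ]⟩

theorem comap_ker_self {Z X : Scheme.{u}} (i : Z ⟶ X) [IsClosedImmersion i] : i.ker.comap i = ⊥ := by
  rw [← ker_of_comp_eq (𝟙 Z) (Category.id_comp i), Scheme.Hom.ker_eq_bot_of_isIso]

theorem ker_toX_pow {𝔛 : FSch.Sys.{u}} (hF : 𝔛.IsFormal) (hA : 𝔛.IsAdic) (n : ℕ) :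
    (𝔛.toX n).ker ^ (n + 1) = ⊥ := by
  haveI := (hF n).1
  haveI := isClosedImmersion_toX hF n
  haveI := isClosedImmersion_toX hF (n + 1)
  rw [ker_of_comp_eq (𝔛.toX n) (show 𝔛.toX n ≫ 𝔛.ι n = 𝔛.toX (n + 1) from rfl), ← comap_pow, ← hA n,
    comap_ker_self]

theorem isLocallyNoetherian_levels {𝔛 : FSch.Sys.{u}} (hF : 𝔛.IsFormal) (hA : 𝔛.IsAdic)
    [IsLocallyNoetherian (𝔛.X 0)] (hft : FSch.IdealFT (𝔛.ι 0).ker) :
    ∀ n, IsLocallyNoetherian (𝔛.X n)
  | 0 => inferInstance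
  | n + 1 => by
    haveI := isLocallyNoetherian_levels hF hA hft n
    haveI := (hF n).1
    haveI : Surjective (𝔛.ι n) := ⟨(hF n).2⟩
    have hfg : FSch.IdealFT (𝔛.ι n).ker := by
      match n with
      | 0 => exact hft
      | m + 1 =>
        intro U
        rw [hA (m + 1), Scheme.IdealSheafData.ideal_pow, Pi.pow_apply]
        refine Ideal.FG.pow ?_
        haveI := IsLocallyNoetherian.component_noetherian (X := 𝔛.X (m + 1))
          ⟨(𝔛.ι (m + 1)) ⁻¹ᵁ U.1, U.2.preimage _⟩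
        have e := congrArg (fun K : (𝔛.X (m + 1 + 1)).IdealSheafData => K.ideal U) (hA (m + 1))
        rw [Scheme.IdealSheafData.ideal_pow, Pi.pow_apply, (𝔛.ι (m + 1)).ker_apply U] at e
        have h0 := congrArg (fun K : (𝔛.X (m + 1 + 1)).IdealSheafData => K.ideal U) (ker_toX_pow hF hA (m + 1 + 1))
        rw [Scheme.IdealSheafData.ideal_pow, Pi.pow_apply] at h0
        haveI : IsNoetherianRing (Γ(𝔛.X (m + 1 + 1), U.1) ⧸ (𝔛.toX (m + 1 + 1)).ker.ideal U ^ (m + 1 + 1)) := by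
          rw [← e]
          exact isNoetherianRing_of_ringEquiv Γ(𝔛.X (m + 1), (𝔛.ι (m + 1)) ⁻¹ᵁ U.1)
            (RingHom.quotientKerEquivOfSurjective ((𝔛.ι (m + 1)).app_surjective U.1 U.2)).symm
        exact fg_of_nilpotent_of_quotient _ ⟨_, h0.trans (congrFun Scheme.IdealSheafData.ideal_bot U)⟩ (m + 1) (by omega)
    exact isLocallyNoetherian_of_thickening (𝔛.ι n) hfg (isNilpotent_ker_ideal (𝔛.ι n) hfg)

end Groth.Agent.ClPush
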