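import Groth.Agent.ClPush.FormalLevels
import Groth.Prelude.Def_FSch4

/-!
Morphisms of systems: levelwise criteria, completion squares, factorization through thickenings.
-/

set_option autoImplicit false
set_option backward.isDefEq.respectTransparency.types false

universe u

open CategoryTheory CategoryTheory.Limits AlgebraicGeometry

namespace Groth.Agent.ClPush

/-- A levelwise cartesian square of systems is cartesian. -/
theorem isPullback_of_levels {P A B S : FSch.Sys.{u}} (a : P ⟶ A) (b : P ⟶ B) (f : A ⟶ S) (g : B ⟶ S)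
    (w : a ≫ f = b ≫ g)
    (h : ∀ n, IsPullback ((a : FSch.Hom P A).app n) ((b : FSch.Hom P B).app n) ((f : FSch.Hom A S).app n)
      ((g : FSch.Hom B S).app n)) : IsPullback a b f g := by
  refine IsPullback.of_isLimit (c := PullbackCone.mk _ _ w)
    (PullbackCone.IsLimit.mk w
      (fun s => (⟨fun n => (h n).lift ((s.fst : FSch.Hom _ _).app n) ((s.snd : FSch.Hom _ _).app n)
        (congrArg (fun φ : FSch.Hom _ _ => φ.app n) s.condition), fun n => ?_⟩ : FSch.Hom s.pt P))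
      (fun s => ?_) (fun s => ?_) (fun s m h1 h2 => ?_))
  · refine (h (n + 1)).hom_ext ?_ ?_
    · rw [Category.assoc, ← (a : FSch.Hom P A).comm n, IsPullback.lift_fst_assoc,
        (s.fst : FSch.Hom _ _).comm n, Category.assoc, IsPullback.lift_fst]
    · rw [Category.assoc, ← (b : FSch.Hom P B).comm n, IsPullback.lift_snd_assoc,
        (s.snd : FSch.Hom _ _).comm n, Category.assoc, IsPullback.lift_snd]
  · exact FSch.Hom.ext (funext fun n => (h n).lift_fst _ _ _)
  · exact FSch.Hom.ext (funext fun n => (h n).lift_snd _ _ _)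
  · refine FSch.Hom.ext (funext fun n => (h n).hom_ext ?_ ?_)
    · exact (congrArg (fun φ : FSch.Hom _ _ => φ.app n) h1).trans ((h n).lift_fst _ _ _).symm
    · exact (congrArg (fun φ : FSch.Hom _ _ => φ.app n) h2).trans ((h n).lift_snd _ _ _).symm

/-- The square of a completed morphism along an inverse image ideal, at every level. -/
theorem isPullback_completion {X Y : Scheme.{u}} (f : X ⟶ Y) (K : Y.IdealSheafData)
    (h : FSch.PowCompat f (K.comap f) K) (n : ℕ) :
    IsPullback ((K.comap f) ^ (n + 1)).subschemeι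
      ((FSch.completionMap f (K.comap f) K h : FSch.Hom _ _).app n) f (K ^ (n + 1)).subschemeι :=
  isPullback_of_isClosedImmersion ((K.comap f) ^ (n + 1)).subschemeι (K ^ (n + 1)).subschemeι
    (Scheme.IdealSheafData.subschemeMap ((K.comap f) ^ (n + 1)) (K ^ (n + 1)) f
      (Scheme.IdealSheafData.le_map_iff_comap_le.mpr (h n))) f
    (Scheme.IdealSheafData.subschemeMap_subschemeι _ _ _ (Scheme.IdealSheafData.le_map_iff_comap_le.mpr (h n))).symm
    (by rw [Scheme.IdealSheafData.ker_subschemeι, Scheme.IdealSheafData.ker_subschemeι, comap_pow])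

theorem exists_factor_of_comap_eq_bot {T Y : Scheme.{u}} (f : T ⟶ Y) (K : Y.IdealSheafData)
    (h : K.comap f = ⊥) : ∃ g : T ⟶ K.subscheme, g ≫ K.subschemeι = f := by
  have hk : (pullback.fst f K.subschemeι).ker = ⊥ := h
  haveI : IsIso (pullback.fst f K.subschemeι) :=
    IsClosedImmersion.isIso_of_ker_eq _ (𝟙 T) _ (Category.comp_id _)
      (hk.trans (Scheme.Hom.ker_eq_bot_of_isIso (𝟙 T)).symm)
  exact ⟨inv (pullback.fst f K.subschemeι) ≫ pullback.snd f K.subschemeι, by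
    rw [Category.assoc, ← pullback.condition, IsIso.inv_hom_id_assoc]⟩

theorem exists_pow_comap_eq_bot {T Y : Scheme.{u}} [CompactSpace T] (f : T ⟶ Y) (K : Y.IdealSheafData)
    (hK : FSch.IdealFT K) (h : ∀ t : T, f t ∈ (K.support : Set Y)) : ∃ n, (K ^ (n + 1)).comap f = ⊥ := by
  classical
  have hle : K.comap f ≤ (⊥ : T.IdealSheafData).radical := by
    rw [← Scheme.IdealSheafData.vanishingIdeal_support, ← Scheme.IdealSheafData.le_support_iff_le_vanishingIdeal,
      Scheme.IdealSheafData.support_comap]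
    exact fun t _ => h t
  have hloc : ∀ t : T, ∃ (V : T.affineOpens) (n : ℕ), t ∈ V.1 ∧ ((K.comap f).ideal V) ^ n = ⊥ := fun t => by
    obtain ⟨U, htU, -⟩ := exists_affine_le (V := ⊤) (y := f.base t) trivial
    obtain ⟨V, htV, hV⟩ := exists_affine_le (V := f ⁻¹ᵁ U.1) (y := t) htU
    obtain ⟨n, hn⟩ := Ideal.exists_pow_le_of_le_radical_of_fg (hle V)
      (by rw [FpqcDescent.ideal_comap K f U V hV]; exact Ideal.FG.map (hK U) _)
    refine ⟨V, n, htV, le_bot_iff.1 (hn.trans ?_)⟩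
    rw [Scheme.IdealSheafData.ideal_bot]
    exact le_rfl
  choose V n htV hn using hloc
  obtain ⟨s, hs⟩ := CompactSpace.elim_nhds_subcover (fun t => ((V t).1 : Set T))
    (fun t => (V t).1.2.mem_nhds (htV t))
  refine ⟨s.sup n, ?_⟩
  rw [comap_pow]
  refine le_bot_iff.1 (Scheme.IdealSheafData.le_of_iSup_eq_top (fun t : s => V t.1) ?_ fun t => ?_)
  · refine top_le_iff.1 fun y _ => ?_
    obtain ⟨x, hx, hy⟩ := Set.mem_iUnion₂.1 (hs.ge (Set.mem_univ y))
    exact TopologicalSpace.Opens.mem_iSup.2 ⟨⟨x, hx⟩, hy⟩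
  · rw [Scheme.IdealSheafData.ideal_pow, Pi.pow_apply]
    exact ((Ideal.pow_le_pow_right ((Finset.le_sup t.2).trans (Nat.le_succ _))).trans (hn t.1).le).trans bot_le

theorem isPullback_graph_aux {C : Type*} [Category* C] {A A' B B' P P' : C} (a : A ⟶ A') (b : B ⟶ B') [Mono b]
    (m : P ⟶ P') (g : A ⟶ P) (g' : A' ⟶ P') (π₁ : P ⟶ A) (π₂ : P ⟶ B) (π₁' : P' ⟶ A') (π₂' : P' ⟶ B')
    (f : A ⟶ B) (f' : A' ⟶ B') (hm1 : m ≫ π₁' = π₁ ≫ a) (hm2 : m ≫ π₂' = π₂ ≫ b) (hf : f ≫ b = a ≫ f')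
    (e1 : g ≫ π₁ = 𝟙 A) (e2 : g ≫ π₂ = f) (e1' : g' ≫ π₁' = 𝟙 A') (e2' : g' ≫ π₂' = f')
    (hext : ∀ {T : C} (u v : T ⟶ P), u ≫ π₁ = v ≫ π₁ → u ≫ π₂ = v ≫ π₂ → u = v) (sq : a ≫ g' = g ≫ m) :
    IsPullback a g g' m := by
  refine IsPullback.of_isLimit (c := PullbackCone.mk _ _ sq)
    (PullbackCone.IsLimit.mk _ (fun s => s.snd ≫ π₁) (fun s => ?_) (fun s => ?_) (fun s k h1 h2 => ?_))
  · have c := s.condition =≫ π₁'
    rw [Category.assoc, e1', Category.comp_id, Category.assoc, hm1] at c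
    rw [Category.assoc]
    exact c.symm
  · refine hext _ _ ?_ ?_
    · rw [Category.assoc, e1, Category.comp_id]
    · refine (cancel_mono b).1 ?_
      have c1 := s.condition =≫ π₁'
      have c2 := s.condition =≫ π₂'
      rw [Category.assoc, e1', Category.comp_id, Category.assoc, hm1] at c1
      rw [Category.assoc, e2', Category.assoc, hm2] at c2
      simp only [Category.assoc]
      rw [reassoc_of% e2, hf, ← c2, c1]
      simp only [Category.assoc]
  · show k = s.snd ≫ π₁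
    rw [← h2, Category.assoc, e1, Category.comp_id]

/-- The graph of a morphism of systems into a formal system is adic. -/
theorem isAdicHom_graph {𝔛 𝔜 𝔖 : FSch.Sys.{u}} (h𝔜 : 𝔜.IsFormal) (f : 𝔛 ⟶ 𝔜) (p : 𝔛 ⟶ 𝔖) (q : 𝔜 ⟶ 𝔖)
    (w : f ≫ q = p) : FSch.IsAdicHom (FSch.graph f p q w) := fun n =>
  haveI := (h𝔜 n).1
  isPullback_graph_aux (P := pullback ((p : FSch.Hom 𝔛 𝔖).app n) ((q : FSch.Hom 𝔜 𝔖).app n))
    (P' := pullback ((p : FSch.Hom 𝔛 𝔖).app (n + 1)) ((q : FSch.Hom 𝔜 𝔖).app (n + 1)))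
    (𝔛.ι n) (𝔜.ι n) ((FSch.pullbackSys p q).ι n) _ _ (pullback.fst _ _) (pullback.snd _ _) (pullback.fst _ _) (pullback.snd _ _)
    _ _ (pullback.lift_fst _ _ _) (pullback.lift_snd _ _ _) ((f : FSch.Hom 𝔛 𝔜).comm n)
    (pullback.lift_fst _ _ _) (pullback.lift_snd _ _ _) (pullback.lift_fst _ _ _) (pullback.lift_snd _ _ _)
    (fun u v h1 h2 => pullback.hom_ext h1 h2) ((FSch.graph f p q w : FSch.Hom _ _).comm n).symm

end Groth.Agent.ClPush
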