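import Groth.Agent.ClPush.FormalSys
import Groth.Agent.FpqcDescent.IdealComap
import Groth.Agent.S3862
import Groth.Agent.S2803
import Mathlib.AlgebraicGeometry.Morphisms.Proper
import Mathlib.RingTheory.Filtration

/-!
Properties of morphisms near a closed subscheme read on its infinitesimal neighbourhoods.
-/

set_option autoImplicit false
set_option backward.isDefEq.respectTransparency.types false

universe u

open CategoryTheory CategoryTheory.Limits AlgebraicGeometry

namespace Groth.Agent.ClPush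

variable {X Y Z : Scheme.{u}}

theorem restrict_mono {P : MorphismProperty Scheme.{u}} [P.IsStableUnderBaseChange] (f : X ⟶ Y)
    {V W : Y.Opens} (h : V ≤ W) (hP : P (f ∣_ W)) : P (f ∣_ V) := by
  have hle : f ⁻¹ᵁ V ≤ f ⁻¹ᵁ W := fun x hx => h hx
  have hV : IsPullback (X.homOfLE hle ≫ (f ⁻¹ᵁ W).ι) (f ∣_ V) f (Y.homOfLE h ≫ W.ι) := by
    simp only [Scheme.homOfLE_ι]
    exact (isPullback_morphismRestrict f V).flip
  exact MorphismProperty.of_isPullback (IsPullback.of_right hV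
    (by rw [← cancel_mono W.ι]; simp) (isPullback_morphismRestrict f W).flip) hP

/-- A property holding near each point over a closed set holds over an open neighbourhood of it. -/
theorem exists_open_of_local {P : MorphismProperty Scheme.{u}} [P.IsStableUnderBaseChange]
    [IsZariskiLocalAtTarget P] (f : X ⟶ Y) (h : Y ⟶ Z) [UniversallyClosed h] (S : Set Z)
    (H : ∀ y : Y, h y ∈ S → ∃ W : Y.Opens, y ∈ W ∧ P (f ∣_ W)) :
    ∃ U : Z.Opens, S ⊆ U ∧ P (f ∣_ h ⁻¹ᵁ U) := by
  let C : Y.Opens := ⨆ W : {W : Y.Opens // P (f ∣_ W)}, W.1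
  let U : Z.Opens := ⟨(h '' (C : Set Y)ᶜ)ᶜ, (h.isClosedMap _ C.2.isClosed_compl).isOpen_compl⟩
  refine ⟨U, ?_, IsZariskiLocalAtTarget.of_forall_exists_morphismRestrict fun x => ?_⟩
  · rintro z hz ⟨y, hy, rfl⟩
    obtain ⟨W, hyW, hW⟩ := H y hz
    exact hy (TopologicalSpace.Opens.mem_iSup.2 ⟨⟨W, hW⟩, hyW⟩)
  · have hx : (h ⁻¹ᵁ U).ι x ∈ C := by
      by_contra hc
      exact (show (h ⁻¹ᵁ U).ι x ∈ h ⁻¹ᵁ U from x.2) ⟨_, hc, rfl⟩
    obtain ⟨⟨W, hW⟩, hxW⟩ := TopologicalSpace.Opens.mem_iSup.1 hx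
    refine ⟨(h ⁻¹ᵁ U).ι ⁻¹ᵁ W, hxW, ?_⟩
    rw [P.arrow_mk_iso_iff (morphismRestrictRestrict f _ _)]
    exact restrict_mono f ((h ⁻¹ᵁ U).ι.image_preimage_le W) hW

/-- Base change along a morphism landing in an open where the property holds. -/
theorem of_restrict_of_range_subset {P : MorphismProperty Scheme.{u}} [P.IsStableUnderBaseChange]
    {T T' : Scheme.{u}} {a : T ⟶ X} {b : T ⟶ T'} {f : X ⟶ Y} {i : T' ⟶ Y} (hc : IsPullback a b f i)
    (W : Y.Opens) (hr : Set.range i ⊆ W) (hW : P (f ∣_ W)) : P b := by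
  let l : T' ⟶ W := IsOpenImmersion.lift W.ι i (by simpa using hr)
  have hl : l ≫ W.ι = i := IsOpenImmersion.lift_fac _ _ _
  let k : T ⟶ (f ⁻¹ᵁ W : X.Opens) := (isPullback_morphismRestrict f W).flip.lift a (b ≫ l)
    (by rw [Category.assoc, hl, hc.w])
  have hc' : IsPullback (k ≫ (f ⁻¹ᵁ W).ι) b f (l ≫ W.ι) := by
    rw [hl, IsPullback.lift_fst]
    exact hc
  exact MorphismProperty.of_isPullback
    (IsPullback.of_right hc' (IsPullback.lift_snd _ _ _ _) (isPullback_morphismRestrict f W).flip) hW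

/-- Local closed immersion from the fibre over a closed subscheme. -/
theorem exists_closedImmersion_of_level {T T' : Scheme.{u}} {a : T ⟶ X} {b : T ⟶ T'} {f : X ⟶ Y}
    {i : T' ⟶ Y} (hc : IsPullback a b f i) [IsClosedImmersion i] [IsClosedImmersion b]
    [UniversallyClosed f] [LocallyOfFiniteType f] (t : T') :
    ∃ W : Y.Opens, i t ∈ W ∧ IsClosedImmersion (f ∣_ W) := by
  let q := Y.fromSpecResidueField (i t)
  haveI : Nonempty ↥(pullback i q) := by
    have : t ∈ Set.range (pullback.fst i q) := by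
      rw [Scheme.Pullback.range_fst, Scheme.range_fromSpecResidueField]
      rfl
    obtain ⟨w, -⟩ := this
    exact ⟨w⟩
  haveI hsurj : Surjective (pullback.snd i q) := ⟨fun w =>
    ⟨Classical.arbitrary _, Subsingleton.elim _ _⟩⟩
  haveI : IsIso (pullback.snd i q) := isIso_of_isClosedImmersion_of_surjective _
  let j : Spec (Y.residueField (i t)) ⟶ T' := inv (pullback.snd i q) ≫ pullback.fst i q
  have hj : j ≫ i = q := by
    rw [Category.assoc, pullback.condition, IsIso.inv_hom_id_assoc]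
  let k : f.fiber (i t) ⟶ T := hc.lift (pullback.fst f q) (pullback.snd f q ≫ j)
    (by rw [Category.assoc, hj]; exact pullback.condition)
  have hbig : IsPullback (k ≫ a) (f.fiberToSpecResidueField (i t)) f (j ≫ i) := by
    rw [hj, IsPullback.lift_fst]
    exact IsPullback.of_hasPullback f q
  haveI : IsClosedImmersion (f.fiberToSpecResidueField (i t)) :=
    MorphismProperty.of_isPullback (IsPullback.of_right hbig (IsPullback.lift_snd _ _ _ _) hc)
      ‹IsClosedImmersion b›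
  refine (Groth.Agent.S2803.result f (i t)).2 ⟨?_, ⊤, trivial, inferInstance⟩
  by_cases hne : IsEmpty ↥(f.fiber (i t))
  · exact Or.inl hne
  · rw [not_isEmpty_iff] at hne
    haveI : Surjective (f.fiberToSpecResidueField (i t)) :=
      ⟨fun w => ⟨Classical.arbitrary _, Subsingleton.elim _ _⟩⟩
    exact Or.inr (isIso_of_isClosedImmersion_of_surjective _)

/-- An ideal sheaf in all powers of another is zero near the support of the latter. -/
theorem exists_ideal_eq_bot_of_le_pow [IsLocallyNoetherian X] (K P : X.IdealSheafData)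
    (hK : ∀ n : ℕ, K ≤ P ^ (n + 1)) {x : X} (hx : x ∈ (P.support : Set X)) :
    ∃ V : X.affineOpens, x ∈ V.1 ∧ K.ideal V = ⊥ := by
  classical
  obtain ⟨_, ⟨V, hV, rfl⟩, hxV, -⟩ :=
    X.isBasis_affineOpens.exists_subset_of_mem_open (Set.mem_univ x) isOpen_univ
  haveI : IsNoetherianRing Γ(X, V) := IsLocallyNoetherian.component_noetherian ⟨V, hV⟩
  have hPx : ∀ r ∈ P.ideal ⟨V, hV⟩, x ∉ X.basicOpen r := fun r hr =>
    (Scheme.mem_zeroLocus_iff _ _ _).1 ((Scheme.IdealSheafData.mem_support_iff.1 hx) ⟨V, hV⟩) r hr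
  have hkill : ∀ z ∈ K.ideal ⟨V, hV⟩, ∃ g : Γ(X, V), x ∈ X.basicOpen g ∧ g * z = 0 := fun z hz => by
    have hz' : z ∈ (⨅ i : ℕ, P.ideal ⟨V, hV⟩ ^ i • ⊤ : Submodule Γ(X, V) Γ(X, V)) := by
      rw [Submodule.mem_iInf]
      intro i
      have h2 := hK i ⟨V, hV⟩ hz
      rw [Scheme.IdealSheafData.ideal_pow, Pi.pow_apply] at h2
      rw [smul_eq_mul, ← Ideal.one_eq_top, mul_one]
      exact Ideal.pow_le_pow_right (Nat.le_succ i) h2
    obtain ⟨r, hr⟩ := ((P.ideal ⟨V, hV⟩).mem_iInf_smul_pow_eq_bot_iff z).1 hz'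
    refine ⟨1 - r, ?_, by rw [sub_mul, one_mul, ← smul_eq_mul, sub_eq_zero]; exact hr.symm⟩
    have h1 : x ∈ X.basicOpen (1 : Γ(X, V)) := by
      rw [X.basicOpen_of_isUnit isUnit_one]; exact hxV
    rw [show (1 : Γ(X, V)) = (1 - r) + r by ring] at h1
    exact (X.basicOpen_add_le _ _ h1).resolve_right (hPx r r.2)
  obtain ⟨s, hs⟩ := IsNoetherian.noetherian (K.ideal ⟨V, hV⟩)
  choose g hg hg0 using hkill
  let G : Γ(X, V) := ∏ z ∈ s.attach, g z.1 (hs.le (Submodule.subset_span z.2))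
  have hxG : x ∈ X.basicOpen G := by
    show x ∈ X.basicOpen (∏ z ∈ s.attach, g z.1 (hs.le (Submodule.subset_span z.2)))
    induction s.attach using Finset.induction with
    | empty => rw [Finset.prod_empty, X.basicOpen_of_isUnit isUnit_one]; exact hxV
    | insert a t ha ih => rw [Finset.prod_insert ha, Scheme.basicOpen_mul]; exact ⟨hg _ _, ih⟩
  refine ⟨X.affineBasicOpen (U := ⟨V, hV⟩) G, hxG, ?_⟩
  rw [← K.map_ideal_basicOpen ⟨V, hV⟩ G]
  refine le_bot_iff.1 (Ideal.map_le_iff_le_comap.2 ?_)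
  intro z hz
  have hG : G * z = 0 := by
    have hz2 : z ∈ Submodule.span Γ(X, V) (s : Set Γ(X, V)) := hs.ge hz
    induction hz2 using Submodule.span_induction with
    | mem w hw =>
      obtain ⟨c, hc⟩ := Finset.dvd_prod_of_mem (fun z : s => g z.1 (hs.le (Submodule.subset_span z.2)))
        (Finset.mem_attach s ⟨w, hw⟩)
      rw [show G = g w (hs.le (Submodule.subset_span hw)) * c from hc, mul_right_comm, hg0, zero_mul]
    | zero => exact mul_zero _
    | add a b _ _ iha ihb => rw [mul_add, iha (hs.le ‹_›), ihb (hs.le ‹_›), add_zero]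
    | smul c a _ iha => rw [smul_eq_mul, mul_left_comm, iha (hs.le ‹_›), mul_zero]
  refine Ideal.mem_bot.2 ?_
  have hu : IsUnit ((X.presheaf.map (homOfLE (X.basicOpen_le G)).op).hom G) :=
    X.toRingedSpace.isUnit_res_basicOpen G
  have h0 := congrArg (X.presheaf.map (homOfLE (X.basicOpen_le G)).op).hom hG
  rw [map_mul, map_zero] at h0
  exact hu.mul_right_eq_zero.1 h0

/-- A closed immersion is an isomorphism over an affine where its ideal vanishes. -/
theorem isIso_restrict_of_ker_ideal_eq_bot (f : X ⟶ Y) [IsClosedImmersion f] (V : Y.affineOpens)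
    (h : f.ker.ideal V = ⊥) : IsIso (f ∣_ V.1) := by
  haveI : IsAffine (V.1 : Scheme.{u}) := V.2
  rw [IsClosedImmersion.isIso_iff_ker_eq_bot,
    ker_of_isPullback (isPullback_morphismRestrict f V.1)]
  refine Scheme.IdealSheafData.ext_of_isAffine ?_
  rw [FpqcDescent.ideal_comap f.ker V.1.ι V ⟨⊤, isAffineOpen_top _⟩ (fun x _ => x.2), h,
    Ideal.map_bot, Scheme.IdealSheafData.ideal_bot, Pi.bot_apply]

/-- A closed immersion inducing isomorphisms on all levels is an isomorphism near the support. -/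
theorem exists_isIso_of_levels [IsLocallyNoetherian Y] {f : X ⟶ Y} (P : Y.IdealSheafData) (W : Y.Opens)
    [IsClosedImmersion (f ∣_ W)] {T : ℕ → Scheme.{u}} (a : ∀ n, T n ⟶ X)
    (b : ∀ n, T n ⟶ (P ^ (n + 1)).subscheme)
    (w : ∀ n, a n ≫ f = b n ≫ (P ^ (n + 1)).subschemeι) [∀ n, IsIso (b n)]
    {y : Y} (hyW : y ∈ W) (hy : y ∈ (P.support : Set Y)) :
    ∃ W' : Y.Opens, y ∈ W' ∧ IsIso (f ∣_ W') := by
  let K := (f ∣_ W).ker
  have hK : ∀ n, K ≤ P.comap W.ι ^ (n + 1) := fun n => by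
    rw [← comap_pow]
    let p := pullback.fst W.ι (P ^ (n + 1)).subschemeι
    let q := pullback.snd W.ι (P ^ (n + 1)).subschemeι
    have h1 : p.ker = (P ^ (n + 1)).comap W.ι := by
      rw [Scheme.IdealSheafData.ker_fst_of_isClosedImmersion, Scheme.IdealSheafData.ker_subschemeι]
    rw [← h1]
    have h2 : (isPullback_morphismRestrict f W).lift p (q ≫ inv (b n) ≫ a n)
        (by rw [Category.assoc, Category.assoc, w n, IsIso.inv_hom_id_assoc, pullback.condition])
          ≫ (f ∣_ W) = p := IsPullback.lift_fst _ _ _ _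
    rw [← h2]
    exact Scheme.Hom.le_ker_comp _ _
  haveI : IsLocallyNoetherian (W : Scheme.{u}) := inferInstance
  obtain ⟨V, hyV, hV⟩ := exists_ideal_eq_bot_of_le_pow K (P.comap W.ι) hK (x := ⟨y, hyW⟩)
    (by rw [Scheme.IdealSheafData.support_comap]; exact hy)
  refine ⟨W.ι ''ᵁ V.1, ⟨⟨y, hyW⟩, hyV, rfl⟩, ?_⟩
  have := isIso_restrict_of_ker_ideal_eq_bot (f ∣_ W) V hV
  exact ((MorphismProperty.isomorphisms _).arrow_mk_iso_iff (morphismRestrictRestrict f W V.1)).1 this

theorem levels_near_of_forall_closedImmersion (g : X ⟶ Z) (h : Y ⟶ Z) [IsProper g] [IsProper h]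
    (f : X ⟶ Y) (w : f ≫ h = g) (𝓚 : Y.IdealSheafData) (hc : FSch.PowCompat f (𝓚.comap f) 𝓚)
    [IsClosedImmersion ((FSch.completionMap f (𝓚.comap f) 𝓚 hc : FSch.Hom _ _).app 0)]
    {y : Y} (hy : y ∈ (𝓚.support : Set Y)) :
    ∃ W : Y.Opens, y ∈ W ∧ IsClosedImmersion (f ∣_ W) := by
  haveI : UniversallyClosed (f ≫ h) := by rw [w]; infer_instance
  haveI : UniversallyClosed f := UniversallyClosed.of_comp_of_isSeparated f h
  haveI : LocallyOfFiniteType (f ≫ h) := by rw [w]; infer_instance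
  haveI : LocallyOfFiniteType f := locallyOfFiniteType_of_comp f h
  have hy' : y ∈ Set.range (FSch.completionToX Y 𝓚 0) := by
    show y ∈ Set.range (𝓚 ^ (0 + 1)).subschemeι
    rw [Scheme.IdealSheafData.range_subschemeι, Scheme.IdealSheafData.support_pow_succ]
    exact hy
  obtain ⟨t, rfl⟩ := hy'
  haveI : IsClosedImmersion (FSch.completionToX Y 𝓚 0) := by
    show IsClosedImmersion (𝓚 ^ (0 + 1)).subschemeι
    infer_instance
  exact exists_closedImmersion_of_level ((Groth.Agent.S3862.result f 𝓚 hc).1 0) t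

end Groth.Agent.ClPush
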