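import Groth.Agent.ClPush.FormalSys
import Groth.Prelude.Def_CohB1
import Mathlib.AlgebraicGeometry.Morphisms.Proper
import Mathlib.RingTheory.Filtration

/-!
Proper schemes over an adically complete Noetherian ring: the special fibre meets every closed set.
-/

set_option autoImplicit false
set_option backward.isDefEq.respectTransparency.types false

universe u

open CategoryTheory CategoryTheory.Limits AlgebraicGeometry

namespace Groth.Agent.ClPush

variable {A : Type u} [CommRing A] {X : Scheme.{u}}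

/-- An open containing the special fibre of a universally closed morphism is everything. -/
theorem eq_top_of_zeroLocus_le (f : X ⟶ Spec (CommRingCat.of A)) [UniversallyClosed f] {I : Ideal A}
    (hI : I ≤ (⊥ : Ideal A).jacobson) (W : X.Opens)
    (h : ∀ x : X, f x ∈ PrimeSpectrum.zeroLocus (I : Set A) → x ∈ W) : W = ⊤ := by
  refine top_le_iff.1 fun x _ => ?_
  by_contra hx
  have hc : IsClosed (f '' (W : Set X)ᶜ) := f.isClosedMap _ W.2.isClosed_compl
  let p : PrimeSpectrum A := f x
  obtain ⟨m, hm, hpm⟩ := Ideal.exists_le_maximal p.asIdeal p.2.ne_top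
  let q : PrimeSpectrum A := ⟨m, hm.isPrime⟩
  have hq : q ∈ f '' (W : Set X)ᶜ :=
    ((PrimeSpectrum.le_iff_specializes p q).1 hpm).mem_closed hc ⟨x, hx, rfl⟩
  obtain ⟨y, hy, hyq⟩ := hq
  refine hy (h y ?_)
  rw [hyq]
  exact (PrimeSpectrum.mem_zeroLocus q (I : Set A)).2 (hI.trans (sInf_le ⟨bot_le, hm⟩))

theorem range_thickι_zero (f : X ⟶ Spec (CommRingCat.of A)) (I : Ideal A) :
    Set.range (CohB1.thickι f I 0) = f ⁻¹' PrimeSpectrum.zeroLocus (I : Set A) := by
  have h1 : Set.range (CohB1.thickι f I 0) = f ⁻¹' Set.range (CohB1.specQuot I 0) :=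
    Scheme.Pullback.range_fst _ _
  rw [h1]
  congr 1
  show Set.range (PrimeSpectrum.comap (Ideal.Quotient.mk (I ^ (0 + 1)))) = _
  rw [range_comap_of_surjective _ _ Ideal.Quotient.mk_surjective, Ideal.mk_ker, pow_one]

instance (I : Ideal A) (n : ℕ) : IsClosedImmersion (CohB1.specQuot I n) :=
  IsClosedImmersion.spec_of_surjective _ Ideal.Quotient.mk_surjective

theorem ker_thickι (f : X ⟶ Spec (CommRingCat.of A)) (I : Ideal A) (n : ℕ) :
    (CohB1.thickι f I n).ker = (CohB1.thickι f I 0).ker ^ (n + 1) := by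
  refine (ker_of_isPullback (IsPullback.of_hasPullback f (CohB1.specQuot I n))).trans ?_
  refine Eq.trans ?_ (congrArg (· ^ (n + 1))
    (ker_of_isPullback (IsPullback.of_hasPullback f (CohB1.specQuot I 0))).symm)
  refine Eq.trans ?_ (comap_pow f _ n)
  exact congrArg (·.comap f) (ker_specMap_quot_pow A I n)

/-- An ideal sheaf contained in all powers of the ideal of the special fibre is zero. -/
theorem eq_bot_of_le_ker_thickι [IsLocallyNoetherian X] (f : X ⟶ Spec (CommRingCat.of A))
    [UniversallyClosed f] {I : Ideal A} (hI : I ≤ (⊥ : Ideal A).jacobson) (K : X.IdealSheafData)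
    (hK : ∀ n, K ≤ (CohB1.thickι f I n).ker) : K = ⊥ := by
  classical
  let W : X.Opens := ⨆ V : {V : X.affineOpens // K.ideal V = ⊥}, V.1.1
  have hW : W = ⊤ := eq_top_of_zeroLocus_le f hI W fun x hx => by
    have hxr : x ∈ Set.range (CohB1.thickι f I 0) := by rw [range_thickι_zero]; exact hx
    obtain ⟨_, ⟨V, hV, rfl⟩, hxV, -⟩ :=
      X.isBasis_affineOpens.exists_subset_of_mem_open (Set.mem_univ x) isOpen_univ
    let P : Ideal Γ(X, V) := (CohB1.thickι f I 0).ker.ideal ⟨V, hV⟩
    haveI : IsNoetherianRing Γ(X, V) := IsLocallyNoetherian.component_noetherian ⟨V, hV⟩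
    have hPx : ∀ r ∈ P, x ∉ X.basicOpen r := fun r hr =>
      (Scheme.mem_zeroLocus_iff _ _ _).1 ((Scheme.IdealSheafData.mem_support_iff.1
        ((CohB1.thickι f I 0).range_subset_ker_support hxr)) ⟨V, hV⟩) r hr
    have hkill : ∀ z ∈ K.ideal ⟨V, hV⟩, ∃ g : Γ(X, V), x ∈ X.basicOpen g ∧ g * z = 0 := fun z hz => by
      have hz' : z ∈ (⨅ i : ℕ, P ^ i • ⊤ : Submodule Γ(X, V) Γ(X, V)) := by
        rw [Submodule.mem_iInf]
        intro i
        have h2 := hK i ⟨V, hV⟩ hz
        rw [ker_thickι, Scheme.IdealSheafData.ideal_pow, Pi.pow_apply] at h2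
        rw [smul_eq_mul, ← Ideal.one_eq_top, mul_one]
        exact Ideal.pow_le_pow_right (Nat.le_succ i) h2
      obtain ⟨r, hr⟩ := (P.mem_iInf_smul_pow_eq_bot_iff z).1 hz'
      refine ⟨1 - r, ?_, by rw [sub_mul, one_mul, ← smul_eq_mul, sub_eq_zero]; exact hr.symm⟩
      have h1 : x ∈ X.basicOpen (1 : Γ(X, V)) := by
        rw [X.basicOpen_of_isUnit isUnit_one]; exact hxV
      rw [show (1 : Γ(X, V)) = (1 - r) + r by ring] at h1
      exact (X.basicOpen_add_le _ _ h1).resolve_right (hPx r r.2)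
    obtain ⟨s, hs⟩ := IsNoetherian.noetherian (K.ideal ⟨V, hV⟩)
    choose g hg hg0 using hkill
    let G : Γ(X, V) := ∏ z ∈ s.attach, g z.1 (hs.le (Submodule.subset_span z.2))
    have hxG : x ∈ X.basicOpen G := by
      show x ∈ X.basicOpen (∏ z ∈ s.attach, g z.1 (hs.le (Submodule.subset_span z.2)))
      induction s.attach using Finset.induction with
      | empty => rw [Finset.prod_empty, X.basicOpen_of_isUnit isUnit_one]; exact hxV
      | insert a t ha ih => rw [Finset.prod_insert ha, Scheme.basicOpen_mul]; exact ⟨hg _ _, ih⟩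
    refine TopologicalSpace.Opens.mem_iSup.2 ⟨⟨X.affineBasicOpen (U := ⟨V, hV⟩) G, ?_⟩, hxG⟩
    rw [← K.map_ideal_basicOpen ⟨V, hV⟩ G]
    refine le_bot_iff.1 (Ideal.map_le_iff_le_comap.2 ?_)
    intro z hz
    have hG : G * z = 0 := by
      have hz2 : z ∈ Submodule.span Γ(X, V) (s : Set Γ(X, V)) := hs.ge hz
      induction hz2 using Submodule.span_induction with
      | mem w hw =>
        obtain ⟨c, hc⟩ := Finset.dvd_prod_of_mem (fun z : s => g z.1 (hs.le (Submodule.subset_span z.2)))
          (Finset.mem_attach s ⟨w, hw⟩)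
        rw [show G = g w (hs.le (Submodule.subset_span hw)) * c from hc, mul_right_comm, hg0, zero_mul]
      | zero => exact mul_zero _
      | add a b _ _ iha ihb => rw [mul_add, iha (hs.le ‹_›), ihb (hs.le ‹_›), add_zero]
      | smul c a _ iha => rw [smul_eq_mul, mul_left_comm, iha (hs.le ‹_›), mul_zero]
    refine Ideal.mem_bot.2 ?_
    have hu : IsUnit ((X.presheaf.map (homOfLE (X.basicOpen_le G)).op).hom G) :=
      X.toRingedSpace.isUnit_res_basicOpen G
    have h0 := congrArg (X.presheaf.map (homOfLE (X.basicOpen_le G)).op).hom hG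
    rw [map_mul, map_zero] at h0
    exact hu.mul_right_eq_zero.1 h0
  exact Scheme.IdealSheafData.ext_of_iSup_eq_top (fun V : {V : X.affineOpens // K.ideal V = ⊥} => V.1) hW
    (fun V => by rw [V.2, Scheme.IdealSheafData.ideal_bot, Pi.bot_apply])

end Groth.Agent.ClPush
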