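import Groth.Prelude.Def_FSch3

/-!
Completed localizations and the stalk ring of a formal spectrum.
-/

set_option autoImplicit false
set_option backward.isDefEq.respectTransparency false

universe u

namespace Groth.Agent.ClPush

open AdicCompletion

variable {S T : Type u} [CommRing S] [CommRing T]

lemma evalₐ_complMap (I : Ideal S) (K : Ideal T) (g : S →+* T) (h : I.map g ≤ K) (n : ℕ)
    (x : AdicCompletion I S) :
    evalₐ K n (FSch.complMap I K g h x) =
      Ideal.quotientMap (K ^ n) g (FSch.pow_le_comap_pow_of_map_le I K g h n) (evalₐ I n x) := by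
  rw [FSch.complMap]
  refine (AdicCompletion.evalₐ_liftRingHom _ _ (fun {m n} hle => RingHom.ext fun y => ?_) _ _).trans rfl
  obtain ⟨y, rfl⟩ := AdicCompletion.mk_surjective I S y
  simp only [RingHom.coe_comp, Function.comp_apply, AlgHom.toRingHom_eq_coe, AlgHom.coe_toRingHom,
    evalₐ_mk, Ideal.quotientMap_mk, Ideal.Quotient.factorPow, Ideal.Quotient.factor_mk]
  rw [Ideal.Quotient.eq]
  have hy := y.2 hle
  rw [SModEq.sub_mem] at hy
  simp only [smul_eq_mul, Ideal.mul_top] at hy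
  rw [← map_sub]
  exact FSch.pow_le_comap_pow_of_map_le I K g h m (neg_sub ((y : ℕ → S) m) (y n) ▸ (I ^ m).neg_mem hy)

lemma evalOneₐ_complMap (I : Ideal S) (K : Ideal T) (g : S →+* T) (h : I.map g ≤ K) (x : AdicCompletion I S) :
    evalOneₐ K (FSch.complMap I K g h x) =
      Ideal.quotientMap K g (Ideal.map_le_iff_le_comap.1 h) (evalOneₐ I x) := by
  rw [← factorₐ_evalₐ_one, ← factorₐ_evalₐ_one, evalₐ_complMap]
  obtain ⟨a, ha⟩ := Ideal.Quotient.mk_surjective (evalₐ I 1 x)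
  rw [← ha]
  rfl

lemma isUnit_mk_pow {I : Ideal S} {a : S} (h : IsUnit (Ideal.Quotient.mk I a)) (n : ℕ) :
    IsUnit (Ideal.Quotient.mk (I ^ n) a) := by
  obtain ⟨b, hb⟩ := h.exists_right_inv
  obtain ⟨c, rfl⟩ := Ideal.Quotient.mk_surjective b
  rw [← map_mul, ← (Ideal.Quotient.mk I).map_one, Ideal.Quotient.eq] at hb
  have hnil : IsNilpotent (Ideal.Quotient.mk (I ^ n) (a * c - 1)) :=
    ⟨n, by rw [← map_pow, Ideal.Quotient.eq_zero_iff_mem]; exact Ideal.pow_mem_pow hb n⟩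
  have h1 : IsUnit (Ideal.Quotient.mk (I ^ n) a * Ideal.Quotient.mk (I ^ n) c) := by
    have h2 := hnil.isUnit_one_add
    rwa [← (Ideal.Quotient.mk (I ^ n)).map_one, ← map_add, add_sub_cancel, map_mul] at h2
  exact isUnit_of_mul_isUnit_left h1

theorem isUnit_of_evalOneₐ {I : Ideal S} (x : AdicCompletion I S) (h : IsUnit (evalOneₐ I x)) : IsUnit x := by
  obtain ⟨y, rfl⟩ := AdicCompletion.mk_surjective I S x
  have hlvl : ∀ n, IsUnit (Ideal.Quotient.mk (I ^ n) (y n)) := by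
    intro n
    rcases n with _ | n
    · exact ⟨⟨_, 1, Ideal.Quotient.eq.2 (by simp), Ideal.Quotient.eq.2 (by simp)⟩, rfl⟩
    · refine isUnit_mk_pow ?_ _
      rw [← factorₐ_evalₐ_one, evalₐ_mk, Ideal.Quotient.factor_mk] at h
      have hy := y.2 (Nat.le_add_left 1 n)
      rw [SModEq.sub_mem, smul_eq_mul, Ideal.mul_top, pow_one] at hy
      have : Ideal.Quotient.mk I (y 1) = Ideal.Quotient.mk I (y (n + 1)) := Ideal.Quotient.eq.2 hy
      rwa [← this]
  choose z hz using fun n => Ideal.Quotient.mk_surjective (↑(hlvl n).unit⁻¹ : S ⧸ I ^ n)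
  have hyz : ∀ n, Ideal.Quotient.mk (I ^ n) (y n * z n) = 1 := fun n => by
    rw [map_mul, hz, IsUnit.mul_val_inv]
  let w : AdicCauchySequence I S := AdicCauchySequence.mk I S z fun n => by
    rw [SModEq.sub_mem, smul_eq_mul, Ideal.mul_top, ← Ideal.Quotient.eq]
    refine (hlvl n).mul_left_cancel ?_
    rw [← map_mul, hyz]
    have hy := y.2 (Nat.le_succ n)
    rw [SModEq.sub_mem, smul_eq_mul, Ideal.mul_top, ← Ideal.Quotient.eq] at hy
    rw [hy]
    have h3 := congrArg (Ideal.Quotient.factor (Ideal.pow_le_pow_right (Nat.le_succ n))) (hyz (n + 1))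
    rw [map_one, Ideal.Quotient.factor_mk, map_mul] at h3
    exact h3.symm
  refine IsUnit.of_mul_eq_one (AdicCompletion.mk I S w) (ext_evalₐ fun n => ?_)
  rw [map_mul, map_one, evalₐ_mk, evalₐ_mk, ← map_mul]
  exact hyz n

variable (A : Type u) [CommRing A] (J 𝔭 : Ideal A) [𝔭.IsPrime]

/-- The transition between completed localizations. -/
noncomputable def cAwayMap (f g : A) : FSch.cAway A J f →+* FSch.cAway A J (f * g) :=
  FSch.complMap _ _ (IsLocalization.Away.awayToAwayRight (S := Localization.Away f) f g) (by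
    rw [Ideal.map_map]
    refine le_of_eq (congrArg (fun φ => J.map φ) ?_)
    ext a
    exact IsLocalization.Away.awayToAwayRight_eq f g a)

lemma cAwayToAtPrime_map (f g : A) (hf : f ∉ 𝔭) (hfg : f * g ∉ 𝔭) (x : FSch.cAway A J f) :
    FSch.cAwayToAtPrime A J 𝔭 (f * g) hfg (cAwayMap A J f g x) = FSch.cAwayToAtPrime A J 𝔭 f hf x := by
  refine ext_evalₐ fun n => ?_
  simp only [cAwayMap, FSch.cAwayToAtPrime, evalₐ_complMap]
  obtain ⟨a, ha⟩ := Ideal.Quotient.mk_surjective (evalₐ (J.map (algebraMap A (Localization.Away f))) n x)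
  rw [← ha]
  simp only [Ideal.quotientMap_mk]
  refine congrArg (Ideal.Quotient.mk _) ?_
  have e : (FSch.awayToAtPrime A 𝔭 (f * g) hfg).comp
      (IsLocalization.Away.awayToAwayRight (S := Localization.Away f) f g) = FSch.awayToAtPrime A 𝔭 f hf := by
    refine IsLocalization.ringHom_ext (Submonoid.powers f) (RingHom.ext fun b => ?_)
    simp only [RingHom.comp_apply, FSch.awayToAtPrime, IsLocalization.Away.awayToAwayRight_eq, IsLocalization.Away.lift_eq]
  exact congr($e a)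

lemma mul_notMem {f g : A} (hf : f ∉ 𝔭) (hg : g ∉ 𝔭) : f * g ∉ 𝔭 := fun h =>
  (Ideal.IsPrime.mem_or_mem (I := 𝔭) inferInstance h).elim hf hg

lemma mem_stalkSubring (y : FSch.cAtPrime A J 𝔭) :
    y ∈ FSch.stalkSubring A J 𝔭 ↔ ∃ (f : A) (hf : f ∉ 𝔭), y ∈ (FSch.cAwayToAtPrime A J 𝔭 f hf).range := by
  haveI : Nonempty {f : A // f ∉ 𝔭} := ⟨⟨1, fun h => Ideal.IsPrime.ne_top inferInstance ((Ideal.eq_top_iff_one _).2 h)⟩⟩
  rw [FSch.stalkSubring, Subring.mem_iSup_of_directed]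
  · exact ⟨fun ⟨f, hf⟩ => ⟨f.1, f.2, hf⟩, fun ⟨f, hf, h⟩ => ⟨⟨f, hf⟩, h⟩⟩
  · intro f g
    refine ⟨⟨f.1 * g.1, mul_notMem A 𝔭 f.2 g.2⟩, ?_, ?_⟩
    · rintro _ ⟨x, rfl⟩
      exact ⟨cAwayMap A J f.1 g.1 x, cAwayToAtPrime_map A J 𝔭 f.1 g.1 f.2 (mul_notMem A 𝔭 f.2 g.2) x⟩
    · rintro _ ⟨x, rfl⟩
      have hsub : ∀ (c : A) (hc : c ∉ 𝔭), c = f.1 * g.1 → ∀ z : FSch.cAway A J c,
          FSch.cAwayToAtPrime A J 𝔭 c hc z ∈
            (FSch.cAwayToAtPrime A J 𝔭 (f.1 * g.1) (mul_notMem A 𝔭 f.2 g.2)).range := by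
        rintro c hc rfl z
        exact ⟨z, rfl⟩
      rw [← cAwayToAtPrime_map A J 𝔭 g.1 f.1 g.2 (mul_notMem A 𝔭 g.2 f.2) x]
      exact hsub _ _ (mul_comm _ _) _

lemma map_ne_top (hJ : J ≤ 𝔭) : J.map (algebraMap A (Localization.AtPrime 𝔭)) ≠ ⊤ := fun h => by
  have h1 := (Ideal.map_mono (f := algebraMap A (Localization.AtPrime 𝔭)) hJ)
  rw [h, IsLocalization.AtPrime.map_eq_maximalIdeal 𝔭 (Localization.AtPrime 𝔭)] at h1
  exact (IsLocalRing.maximalIdeal.isMaximal _).ne_top (top_le_iff.1 h1)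

theorem isLocalRing_cAtPrime (hJ : J ≤ 𝔭) : IsLocalRing (FSch.cAtPrime A J 𝔭) := by
  have : Nontrivial (Localization.AtPrime 𝔭 ⧸ J.map (algebraMap A (Localization.AtPrime 𝔭))) :=
    Ideal.Quotient.nontrivial_iff.2 (map_ne_top A J 𝔭 hJ)
  haveI : IsLocalRing (Localization.AtPrime 𝔭 ⧸ J.map (algebraMap A (Localization.AtPrime 𝔭))) :=
    IsLocalRing.of_surjective' (Ideal.Quotient.mk _) Ideal.Quotient.mk_surjective
  haveI : Nontrivial (FSch.cAtPrime A J 𝔭) :=
    (evalOneₐ (J.map (algebraMap A (Localization.AtPrime 𝔭)))).toRingHom.domain_nontrivial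
  refine IsLocalRing.of_isUnit_or_isUnit_one_sub_self fun x => ?_
  rcases IsLocalRing.isUnit_or_isUnit_one_sub_self (evalOneₐ (J.map (algebraMap A (Localization.AtPrime 𝔭))) x) with h | h
  · exact .inl (isUnit_of_evalOneₐ x h)
  · exact .inr (isUnit_of_evalOneₐ _ (by rwa [map_sub, map_one]))

theorem isLocalHom_subtype (hJ : J ≤ 𝔭) : IsLocalHom (FSch.stalkSubring A J 𝔭).subtype := by
  refine ⟨fun y hy => ?_⟩
  obtain ⟨f, hf, z, hz⟩ := (mem_stalkSubring A J 𝔭 y.1).1 y.2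
  obtain ⟨q, hq⟩ := Ideal.Quotient.mk_surjective (evalOneₐ (J.map (algebraMap A (Localization.Away f))) z)
  obtain ⟨⟨a, s⟩, has⟩ := IsLocalization.surj (Submonoid.powers f) q
  have h1 : evalOneₐ (J.map (algebraMap A (Localization.AtPrime 𝔭))) y.1 =
      Ideal.Quotient.mk _ (FSch.awayToAtPrime A 𝔭 f hf q) := by
    rw [← hz, FSch.cAwayToAtPrime, evalOneₐ_complMap, ← hq, Ideal.quotientMap_mk]
  have h2 : IsUnit (Ideal.Quotient.mk (J.map (algebraMap A (Localization.AtPrime 𝔭))) (FSch.awayToAtPrime A 𝔭 f hf q)) :=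
    h1 ▸ hy.map (evalOneₐ (J.map (algebraMap A (Localization.AtPrime 𝔭))))
  have hq' : IsUnit (FSch.awayToAtPrime A 𝔭 f hf q) := by
    by_contra hn
    obtain ⟨b, hb⟩ := h2.exists_right_inv
    obtain ⟨c, rfl⟩ := Ideal.Quotient.mk_surjective b
    rw [← map_mul, ← (Ideal.Quotient.mk (J.map (algebraMap A (Localization.AtPrime 𝔭)))).map_one, Ideal.Quotient.eq] at hb
    have h3 := (IsLocalRing.le_maximalIdeal (map_ne_top A J 𝔭 hJ)) hb
    have h4 : FSch.awayToAtPrime A 𝔭 f hf q * c ∈ IsLocalRing.maximalIdeal (Localization.AtPrime 𝔭) :=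
      Ideal.mul_mem_right _ _ hn
    have h5 := Submodule.sub_mem _ h4 h3
    rw [sub_sub_cancel] at h5
    exact (IsLocalRing.maximalIdeal.isMaximal _).ne_top ((Ideal.eq_top_iff_one _).2 h5)
  have ha : a ∉ 𝔭 := by
    intro ha
    have h3 := hq'.mul (IsLocalization.map_units (Localization.AtPrime 𝔭) (⟨f ^ 0, fun h => Ideal.IsPrime.ne_top inferInstance ((Ideal.eq_top_iff_one 𝔭).2 (by simpa using h))⟩ : 𝔭.primeCompl))
    have h4 := congrArg (FSch.awayToAtPrime A 𝔭 f hf) has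
    rw [map_mul] at h4
    simp only [FSch.awayToAtPrime, IsLocalization.Away.lift_eq] at h4
    obtain ⟨s, k, hk⟩ := s
    have hs : IsUnit (algebraMap A (Localization.AtPrime 𝔭) s) :=
      IsLocalization.map_units (Localization.AtPrime 𝔭) (⟨s, fun h => hf (Ideal.IsPrime.mem_of_pow_mem inferInstance k ((show f ^ k = s from hk) ▸ h))⟩ : 𝔭.primeCompl)
    have h5 : IsUnit (algebraMap A (Localization.AtPrime 𝔭) a) := h4 ▸ hq'.mul hs
    exact (IsLocalization.AtPrime.isUnit_to_map_iff (Localization.AtPrime 𝔭) 𝔭 a).1 h5 ha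
  have hfa := mul_notMem A 𝔭 hf ha
  have hu : IsUnit (cAwayMap A J f a z) := by
    refine isUnit_of_evalOneₐ _ ?_
    rw [cAwayMap, evalOneₐ_complMap, ← hq, Ideal.quotientMap_mk]
    refine IsUnit.map _ ?_
    have h6 := congrArg (IsLocalization.Away.awayToAwayRight (S := Localization.Away f) (P := Localization.Away (f * a)) f a) has
    rw [map_mul, IsLocalization.Away.awayToAwayRight_eq, IsLocalization.Away.awayToAwayRight_eq] at h6
    have h7 : IsUnit (algebraMap A (Localization.Away (f * a)) a) :=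
      isUnit_of_dvd_unit (map_dvd _ (dvd_mul_left a f))
        (IsLocalization.map_units (Localization.Away (f * a)) (⟨f * a, Submonoid.mem_powers _⟩ : Submonoid.powers (f * a)))
    exact isUnit_of_mul_isUnit_left (h6 ▸ h7)
  obtain ⟨v, hv⟩ := hu
  refine IsUnit.of_mul_eq_one ⟨_, (mem_stalkSubring A J 𝔭 _).2 ⟨f * a, hfa, (↑v⁻¹ : FSch.cAway A J (f * a)), rfl⟩⟩
    (Subtype.ext ?_)
  show y.1 * FSch.cAwayToAtPrime A J 𝔭 (f * a) hfa ↑v⁻¹ = 1
  rw [← hz, ← cAwayToAtPrime_map A J 𝔭 f a hf hfa z, ← hv, ← map_mul, Units.mul_inv, map_one]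

end Groth.Agent.ClPush
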