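import Groth.Agent.FlatBasics.DeformFlat

/-!
Permanence of properties along surjective closed immersions into locally Noetherian schemes.
-/

set_option autoImplicit false

universe u

open CategoryTheory CategoryTheory.Limits AlgebraicGeometry

namespace Groth.Agent.ClPush

open Groth.Agent.FlatBasics

variable {X X' Y Y' : Scheme.{u}} {iX : X ⟶ X'} {iY : Y ⟶ Y'} {f : X ⟶ Y} {f' : X' ⟶ Y'}

theorem locallyOfFiniteType_of_noetherian [IsLocallyNoetherian Y'] [IsClosedImmersion iY] [Surjective iY]
    (hc : IsPullback iX f f' iY) [LocallyOfFiniteType f] : LocallyOfFiniteType f' := by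
  refine ⟨fun {U} hU {V} hV e ↦ ?_⟩
  obtain ⟨e₀, he⟩ := isPushout_app hc hU hV e
  have : IsClosedImmersion iX := MorphismProperty.of_isPullback hc.flip inferInstance
  have := IsLocallyNoetherian.component_noetherian (X := Y') ⟨U, hU⟩
  refine finiteType_hom_of_isPushout he (iY.app_surjective U hU)
    (f.finiteType_appLE (hU.preimage iY) (hV.preimage iX) e₀) (iX.app_surjective V hV) ?_
  obtain ⟨n, hn⟩ := IsNoetherianRing.isNilpotent_nilradical Γ(Y', U)
  exact ⟨n, eq_bot_iff.2 ((Ideal.pow_right_mono (ker_app_le_nilradical iY hU) n).trans hn.le)⟩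

theorem isProper_of_noetherian [IsLocallyNoetherian Y'] [IsClosedImmersion iY] [Surjective iY]
    (hc : IsPullback iX f f' iY) [IsProper f] : IsProper f' := by
  have := locallyOfFiniteType_of_noetherian hc
  have := isSeparated_of_thickening hc
  have := surjective_fst_of_isPullback hc
  have : UniversallyClosed (iX ≫ f') := by rw [hc.w]; infer_instance
  have := UniversallyClosed.of_comp_surjective iX f'
  exact ⟨⟩

theorem isFinite_of_noetherian [IsLocallyNoetherian Y'] [IsClosedImmersion iY] [Surjective iY]
    (hc : IsPullback iX f f' iY) [IsFinite f] : IsFinite f' := by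
  have := locallyOfFiniteType_of_noetherian hc
  exact isFinite_of_thickening hc

theorem isClosedImmersion_of_noetherian [IsLocallyNoetherian Y'] [IsClosedImmersion iY] [Surjective iY]
    (hc : IsPullback iX f f' iY) [IsClosedImmersion f] : IsClosedImmersion f' := by
  have := locallyOfFiniteType_of_noetherian hc
  exact isClosedImmersion_of_thickening hc

end Groth.Agent.ClPush
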